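import Mathlib.RingTheory.Flat.Tensor
import Mathlib.RingTheory.Flat.Equalizer
import Mathlib.RingTheory.Ideal.Quotient.Operations
import Mathlib.RingTheory.Noetherian.Basic
import Mathlib.RingTheory.Nakayama
import Mathlib.RingTheory.RingHom.Flat
import Mathlib.RingTheory.Localization.Away.Basic
import Mathlib.RingTheory.Localization.BaseChange
import Mathlib.RingTheory.Localization.Module
import Mathlib.LinearAlgebra.TensorProduct.RightExactness
import Mathlib.RingTheory.LocalRing.Defs
import Mathlib.RingTheory.Jacobson.Radical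
import Mathlib.RingTheory.LocalRing.MaximalIdeal.Basic

/-! # Flatness of quotients by nonzerodivisors -/

set_option autoImplicit false

universe u

open TensorProduct

namespace SDivLib

variable {A : Type u} [CommRing A] {M N P : Type u} [AddCommGroup M] [Module A M] [AddCommGroup N] [Module A N]
  [AddCommGroup P] [Module A P] (g : M →ₗ[A] N) (f : N →ₗ[A] P)

lemma rTensor_injective_of_flat_quot [Module.Flat A P] (hg : Function.Injective g) (hf : Function.Surjective f)
    (H : Function.Exact g f) (Q : Type u) [AddCommGroup Q] [Module A Q] :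
    Function.Injective (g.rTensor Q) :=
  (LinearMap.lTensor_inj_iff_rTensor_inj Q g).1 (LinearMap.lTensor_injective_of_exact_of_flat f hf g hg H Q)

lemma flat_ker [Module.Flat A N] [Module.Flat A P] (hg : Function.Injective g) (hf : Function.Surjective f)
    (H : Function.Exact g f) : Module.Flat A M := by
  rw [Module.Flat.iff_lTensor_injective']
  intro J a b hab
  refine rTensor_injective_of_flat_quot g f hg hf H J ?_
  refine Module.Flat.lTensor_preserves_injective_linearMap (M := N) J.subtype J.injective_subtype ?_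
  simp only [← LinearMap.comp_apply, LinearMap.lTensor_comp_rTensor]
  rw [← LinearMap.rTensor_comp_lTensor, LinearMap.comp_apply, LinearMap.comp_apply, hab]

lemma flat_mid [Module.Flat A M] [Module.Flat A P] (hg : Function.Injective g) (hf : Function.Surjective f)
    (H : Function.Exact g f) : Module.Flat A N := by
  rw [Module.Flat.iff_lTensor_injective']
  intro J
  refine (injective_iff_map_eq_zero _).2 fun x hx => ?_
  have h1 : f.rTensor J x = 0 := by
    refine Module.Flat.lTensor_preserves_injective_linearMap (M := P) J.subtype J.injective_subtype ?_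
    rw [map_zero, ← LinearMap.comp_apply, LinearMap.lTensor_comp_rTensor, ← LinearMap.rTensor_comp_lTensor,
      LinearMap.comp_apply, hx, map_zero]
  obtain ⟨y, rfl⟩ := (rTensor_exact J H hf x).1 h1
  have h2 : J.subtype.lTensor M y = 0 := by
    refine rTensor_injective_of_flat_quot g f hg hf H A ?_
    rw [map_zero, ← LinearMap.comp_apply, LinearMap.rTensor_comp_lTensor, ← LinearMap.lTensor_comp_rTensor,
      LinearMap.comp_apply, hx]
  rw [Module.Flat.lTensor_preserves_injective_linearMap (M := M) J.subtype J.injective_subtype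
    (h2.trans (map_zero _).symm), map_zero]

variable {B : Type u} [CommRing B] [Algebra A B]

section Mul

variable (a b : B)

/-- Multiplication by `b`. -/
noncomputable def mulQuot : (B ⧸ Ideal.span {a}) →ₗ[A] B ⧸ Ideal.span {a * b} :=
  (Submodule.mapQ (Ideal.span {a}) (Ideal.span {a * b}) (LinearMap.mulRight B b) (fun x hx => by
    obtain ⟨c, rfl⟩ := Ideal.mem_span_singleton'.1 hx
    exact Ideal.mem_span_singleton'.2 ⟨c, by simp [mul_assoc]⟩)).restrictScalars A

lemma span_mul_le : Ideal.span {a * b} ≤ Ideal.span {b} :=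
  (Ideal.span_singleton_le_iff_mem _).2 (Ideal.mem_span_singleton'.2 ⟨a, rfl⟩)

/-- The projection. -/
noncomputable def facQuot : (B ⧸ Ideal.span {a * b}) →ₗ[A] B ⧸ Ideal.span {b} :=
  (Submodule.factor (span_mul_le a b)).restrictScalars A

lemma mulQuot_injective (hb : b ∈ nonZeroDivisors B) : Function.Injective (mulQuot (A := A) a b) := by
  refine (injective_iff_map_eq_zero _).2 fun x hx => ?_
  obtain ⟨x, rfl⟩ := Submodule.Quotient.mk_surjective _ x
  obtain ⟨c, hc⟩ := Ideal.mem_span_singleton'.1 ((Submodule.Quotient.mk_eq_zero _).1 hx)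
  refine (Submodule.Quotient.mk_eq_zero _).2 (Ideal.mem_span_singleton'.2 ⟨c, ?_⟩)
  refine sub_eq_zero.1 (mem_nonZeroDivisors_iff_right.1 hb _ ?_)
  have hc' : c * (a * b) = x * b := hc
  linear_combination hc'

lemma facQuot_surjective : Function.Surjective (facQuot (A := A) a b) :=
  Submodule.factor_surjective (span_mul_le a b)

lemma mulQuot_exact : Function.Exact (mulQuot (A := A) a b) (facQuot (A := A) a b) := by
  intro x
  obtain ⟨x, rfl⟩ := Submodule.Quotient.mk_surjective _ x
  constructor
  · intro hx
    obtain ⟨c, hc⟩ := Ideal.mem_span_singleton'.1 (Ideal.Quotient.eq_zero_iff_mem.1 hx)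
    exact ⟨Submodule.Quotient.mk c, congrArg Submodule.Quotient.mk hc⟩
  · rintro ⟨y, hy⟩
    rw [← hy]
    obtain ⟨y, rfl⟩ := Submodule.Quotient.mk_surjective _ y
    exact Ideal.Quotient.eq_zero_iff_mem.2 (Ideal.mem_span_singleton'.2 ⟨y, rfl⟩)

lemma flat_quot_mul (hb : b ∈ nonZeroDivisors B) [Module.Flat A (B ⧸ Ideal.span {a})]
    [Module.Flat A (B ⧸ Ideal.span {b})] : Module.Flat A (B ⧸ Ideal.span {a * b}) :=
  flat_mid _ _ (mulQuot_injective a b hb) (facQuot_surjective a b) (mulQuot_exact a b)

lemma flat_quot_div (hb : b ∈ nonZeroDivisors B) [Module.Flat A (B ⧸ Ideal.span {a * b})]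
    [Module.Flat A (B ⧸ Ideal.span {b})] : Module.Flat A (B ⧸ Ideal.span {a}) :=
  flat_ker _ _ (mulQuot_injective a b hb) (facQuot_surjective a b) (mulQuot_exact a b)

end Mul

open Pointwise in
/-- Flatness from a flat hypersurface through the closed point. -/
lemma flat_of_flat_quot [IsLocalRing B] [IsNoetherianRing B] {c : B} (hc : c ∈ nonZeroDivisors B)
    (hm : c ∈ IsLocalRing.maximalIdeal B) [Module.Flat A (B ⧸ Ideal.span {c})] : Module.Flat A B := by
  refine Module.Flat.iff_lTensor_injective.2 fun {J} hJ => ?_
  have : Module.Finite A J := Module.Finite.iff_fg.2 hJ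
  let S : B ⊗[A] J →ₗ[B] B ⊗[A] A := J.subtype.baseChange B
  show Function.Injective S
  rw [← LinearMap.ker_eq_bot]
  refine Submodule.eq_bot_of_le_smul_of_le_jacobson_bot (Ideal.span {c}) _ (IsNoetherian.noetherian _) ?_ ?_
  · intro x hx
    let g : B →ₗ[A] B := LinearMap.mulLeft A c
    let f : B →ₗ[A] B ⧸ Ideal.span {c} := (Ideal.Quotient.mkₐ A (Ideal.span {c})).toLinearMap
    have hginj : Function.Injective g := (injective_iff_map_eq_zero g).2 fun y hy =>
      mem_nonZeroDivisors_iff_right.1 hc y (by rw [mul_comm]; exact hy)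
    have hfs : Function.Surjective f := Ideal.Quotient.mk_surjective
    have hex : Function.Exact g f := fun y => by
      show Ideal.Quotient.mk (Ideal.span {c}) y = 0 ↔ _
      rw [Ideal.Quotient.eq_zero_iff_mem, Ideal.mem_span_singleton]
      exact ⟨fun ⟨d, hd⟩ => ⟨d, hd.symm⟩, fun ⟨d, hd⟩ => ⟨d, hd.symm⟩⟩
    have hgt : ∀ (Q : Type u) [AddCommGroup Q] [Module A Q] (y : B ⊗[A] Q), g.rTensor Q y = c • y := fun Q _ _ y => by
      induction y using TensorProduct.induction_on with
      | zero => rw [map_zero, smul_zero]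
      | tmul p q => rfl
      | add p q hp hq => rw [map_add, smul_add, hp, hq]
    have h0 : J.subtype.lTensor B x = 0 := hx
    have h1 : f.rTensor J x = 0 := by
      refine Module.Flat.lTensor_preserves_injective_linearMap (M := B ⧸ Ideal.span {c}) J.subtype J.injective_subtype ?_
      rw [map_zero, ← LinearMap.comp_apply, LinearMap.lTensor_comp_rTensor, ← LinearMap.rTensor_comp_lTensor,
        LinearMap.comp_apply, h0, map_zero]
    obtain ⟨y, rfl⟩ := (rTensor_exact J hex hfs x).1 h1
    rw [hgt]
    refine Submodule.smul_mem_smul (Ideal.mem_span_singleton_self c) ?_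
    show S y = 0
    rw [hgt] at h0
    have h2 : c • S y = 0 := (map_smul S c y).symm.trans h0
    have h3 := congrArg (TensorProduct.rid A B) h2
    rw [map_zero] at h3
    have h4 : c * TensorProduct.rid A B (S y) = 0 := by
      rw [← h3]
      induction S y using TensorProduct.induction_on with
      | zero => simp
      | tmul p q => simp [TensorProduct.smul_tmul']
      | add p q hp hq => rw [map_add, mul_add, hp, hq, smul_add, map_add]
    rw [mul_comm] at h4
    exact (TensorProduct.rid A B).injective ((mem_nonZeroDivisors_iff_right.1 hc _ h4).trans (map_zero _).symm)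
  · rw [IsLocalRing.jacobson_eq_maximalIdeal _ bot_ne_top]
    exact (Ideal.span_singleton_le_iff_mem _).2 hm

lemma flat_comp_iff {A B C : Type u} [CommRing A] [CommRing B] [CommRing C] (φ : A →+* B) (π : B →+* C)
    (hπ : Function.Surjective π) {I : Ideal B} (hI : RingHom.ker π = I) :
    (π.comp φ).Flat ↔ ((Ideal.Quotient.mk I).comp φ).Flat := by
  subst hI
  let e := RingHom.quotientKerEquivOfSurjective hπ
  have h1 : π.comp φ = e.toRingHom.comp ((Ideal.Quotient.mk (RingHom.ker π)).comp φ) := RingHom.ext fun _ => rfl
  rw [h1]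
  refine ⟨fun h => ?_, fun h => RingHom.Flat.respectsIso.1 _ e h⟩
  have h2 := RingHom.Flat.respectsIso.1 _ e.symm h
  have h3 : e.symm.toRingHom.comp (e.toRingHom.comp ((Ideal.Quotient.mk (RingHom.ker π)).comp φ)) =
      (Ideal.Quotient.mk (RingHom.ker π)).comp φ := RingHom.ext fun _ => e.symm_apply_apply _
  rwa [h3] at h2

end SDivLib

namespace SDivLib

variable {A : Type u} [CommRing A] {B : Type u} [CommRing B] [Algebra A B]

/-- A flat hypersurface and a flat complement make a flat algebra. -/
lemma flat_of_flat_quot_of_away {c : B} (hc : c ∈ nonZeroDivisors B) [Module.Flat A (B ⧸ Ideal.span {c})]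
    (C : Type u) [CommRing C] [Algebra B C] [Algebra A C] [IsScalarTower A B C] [IsLocalization.Away c C]
    [Module.Flat A C] : Module.Flat A B := by
  refine Module.Flat.iff_lTensor_injective'.2 fun J => ?_
  refine (injective_iff_map_eq_zero _).2 fun x hx => ?_
  -- after inverting `c`
  let φ : B →ₗ[B] C := Algebra.linearMap B C
  have h1 : (φ.restrictScalars A).rTensor J x = 0 := by
    refine Module.Flat.lTensor_preserves_injective_linearMap (M := C) J.subtype J.injective_subtype ?_
    rw [map_zero, ← LinearMap.comp_apply, LinearMap.lTensor_comp_rTensor, ← LinearMap.rTensor_comp_lTensor,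
      LinearMap.comp_apply, hx, map_zero]
  haveI : IsLocalizedModule (Submonoid.powers c) φ :=
    (isLocalizedModule_iff_isLocalization (R := B) (S := Submonoid.powers c)).2 inferInstance
  have h2 : (TensorProduct.AlgebraTensorModule.rTensor A J φ) x = 0 := h1
  obtain ⟨⟨_, n, rfl⟩, hn⟩ := (IsLocalizedModule.eq_zero_iff (Submonoid.powers c)
    (TensorProduct.AlgebraTensorModule.rTensor A J φ)).1 h2
  -- multiplication by `c` is injective on the tensor product
  let g : B →ₗ[A] B := LinearMap.mulLeft A c
  let f : B →ₗ[A] B ⧸ Ideal.span {c} := (Ideal.Quotient.mkₐ A (Ideal.span {c})).toLinearMap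
  have hginj : Function.Injective g := (injective_iff_map_eq_zero g).2 fun y hy =>
    mem_nonZeroDivisors_iff_right.1 hc y (by rw [mul_comm]; exact hy)
  have hfs : Function.Surjective f := Ideal.Quotient.mk_surjective
  have hex : Function.Exact g f := fun y => by
    show Ideal.Quotient.mk (Ideal.span {c}) y = 0 ↔ _
    rw [Ideal.Quotient.eq_zero_iff_mem, Ideal.mem_span_singleton]
    exact ⟨fun ⟨d, hd⟩ => ⟨d, hd.symm⟩, fun ⟨d, hd⟩ => ⟨d, hd.symm⟩⟩
  have hgt : ∀ y : B ⊗[A] J, g.rTensor J y = c • y := fun y => by
    induction y using TensorProduct.induction_on with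
    | zero => rw [map_zero, smul_zero]
    | tmul p q => rfl
    | add p q hp hq => rw [map_add, smul_add, hp, hq]
  have hinj := rTensor_injective_of_flat_quot g f hginj hfs hex J
  replace hn : c ^ n • x = 0 := hn
  clear h1 h2 hx
  induction n with
  | zero => rwa [pow_zero, one_smul] at hn
  | succ n ih =>
    refine ih (hinj ?_)
    rw [map_zero, hgt, smul_smul, ← pow_succ']
    exact hn

end SDivLib
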