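import Groth.Agent.SDivLib.Stalk
import Groth.Agent.SDivLib.FlatAlg
import Mathlib.AlgebraicGeometry.Morphisms.Flat

/-! # Relative effective Cartier divisors -/

set_option autoImplicit false

universe u

open CategoryTheory AlgebraicGeometry TopologicalSpace Opposite

noncomputable section

namespace SDivLib

variable {X S : Scheme.{u}} (f : X ⟶ S) (I : X.IdealSheafData)

lemma flat_quot_iff (V : S.Opens) (U : X.affineOpens) (e : U.1 ≤ f ⁻¹ᵁ V) :
    ((I.subschemeι ≫ f).appLE V (I.subschemeι ⁻¹ᵁ U.1) (fun _ hy => e hy)).hom.Flat ↔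
      ((Ideal.Quotient.mk (I.ideal U)).comp (f.appLE V U.1 e).hom).Flat := by
  rw [← Scheme.Hom.appLE_comp_appLE I.subschemeι f V U.1 (I.subschemeι ⁻¹ᵁ U.1) e le_rfl,
    ← Scheme.Hom.app_eq_appLE, CommRingCat.hom_comp]
  exact flat_comp_iff _ _ (I.subschemeι_app_surjective U) (Scheme.IdealSheafData.ker_subschemeι_app I U)

lemma flat_quot (h : Flat (I.subschemeι ≫ f)) {V : S.Opens} (hV : IsAffineOpen V) (U : X.affineOpens)
    (e : U.1 ≤ f ⁻¹ᵁ V) : ((Ideal.Quotient.mk (I.ideal U)).comp (f.appLE V U.1 e).hom).Flat :=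
  (flat_quot_iff f I V U e).1 (h.flat_appLE hV (U.2.preimage I.subschemeι) _)

lemma flat_of_quot (h : ∀ x ∈ I.support, ∃ (V : S.affineOpens) (U : X.affineOpens) (_ : x ∈ U.1)
      (e : U.1 ≤ f ⁻¹ᵁ V.1), ((Ideal.Quotient.mk (I.ideal U)).comp (f.appLE V U.1 e).hom).Flat) :
    Flat (I.subschemeι ≫ f) := by
  rw [HasRingHomProperty.iff_exists_appLE (P := @Flat)
    (RingHom.Flat.stableUnderComposition.stableUnderCompositionWithLocalizationAway
      RingHom.Flat.holdsForLocalizationAway).left]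
  intro z
  obtain ⟨V, U, hx, e, hf⟩ := h (I.subschemeι z) (by
    rw [← SetLike.mem_coe, ← Scheme.IdealSheafData.range_subschemeι]; exact ⟨z, rfl⟩)
  exact ⟨V, ⟨_, U.2.preimage I.subschemeι⟩, hx, fun _ hy => e hy, (flat_quot_iff f I V.1 U e).2 hf⟩

/-- Two effective Cartier ideals are principal on a common small affine open. -/
lemma exists_common {I J : X.IdealSheafData} (hI : BlowUp.IsEffCartierIdeal I) (hJ : BlowUp.IsEffCartierIdeal J)
    (x : X) (W : X.Opens) (hW : x ∈ W) :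
    ∃ (U : X.affineOpens) (_ : x ∈ U.1) (_ : U.1 ≤ W) (a b : Γ(X, U.1)), a ∈ nonZeroDivisors Γ(X, U.1) ∧
      b ∈ nonZeroDivisors Γ(X, U.1) ∧ I.ideal U = Ideal.span {a} ∧ J.ideal U = Ideal.span {b} := by
  obtain ⟨U₁, hx₁, a, ha, hIa⟩ := hI x
  obtain ⟨U₂, hx₂, b, hb, hJb⟩ := hJ x
  obtain ⟨r, hrW, hxr⟩ := U₁.2.exists_basicOpen_le (V := W ⊓ U₂.1) ⟨x, hW, hx₂⟩ hx₁
  obtain ⟨f₁, f₂, hf, hxf⟩ := exists_basicOpen_le_affine_inter (X.affineBasicOpen r).2 U₂.2 x ⟨hxr, hx₂⟩
  let U : X.affineOpens := X.affineBasicOpen (U := X.affineBasicOpen r) f₁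
  have h₁ : U ≤ U₁ := fun y hy => X.basicOpen_le r (X.basicOpen_le f₁ hy)
  have h₂ : U ≤ U₂ := fun y hy => X.basicOpen_le f₂ (hf ▸ hy)
  have nzd : ∀ (V : X.affineOpens) (g : Γ(X, V.1)) (s : Γ(X, V.1)), g ∈ nonZeroDivisors Γ(X, V.1) →
      (X.presheaf.map (homOfLE (X.basicOpen_le s)).op).hom g ∈ nonZeroDivisors Γ(X, X.basicOpen s) := by
    intro V g s hg
    letI := (X.presheaf.map (homOfLE (X.basicOpen_le s)).op).hom.toAlgebra
    haveI : IsLocalization.Away s Γ(X, X.basicOpen s) := V.2.isLocalization_basicOpen s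
    exact IsLocalization.map_nonZeroDivisors_le (Submonoid.powers s) Γ(X, X.basicOpen s) (Submonoid.mem_map_of_mem _ hg)
  refine ⟨U, hxf, fun y hy => (hrW (X.basicOpen_le f₁ hy)).1, (X.presheaf.map (homOfLE h₁).op).hom a,
    (X.presheaf.map (homOfLE h₂).op).hom b, ?_, ?_, ?_, ?_⟩
  · have := nzd (X.affineBasicOpen r) _ f₁ (nzd U₁ a r ha)
    refine Set.mem_of_eq_of_mem ?_ this
    exact congrArg (fun φ => φ.hom a) (X.presheaf.map_comp (homOfLE (X.basicOpen_le r)).op
      (homOfLE (X.basicOpen_le f₁)).op)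
  · have h := nzd U₂ b f₂ hb
    have key : ∀ (W : X.Opens) (e : W = X.basicOpen f₂) (hle : W ≤ U₂.1),
        (X.presheaf.map (homOfLE hle).op).hom b ∈ nonZeroDivisors Γ(X, W) := by
      rintro W rfl hle; exact h
    exact key _ hf _
  · rw [← I.map_ideal h₁, hIa, Ideal.map_span, Set.image_singleton]
  · rw [← J.map_ideal h₂, hJb, Ideal.map_span, Set.image_singleton]

/-- An affine open target containing the image and a common chart. -/
lemma exists_chart {I J : X.IdealSheafData} (hI : BlowUp.IsEffCartierIdeal I) (hJ : BlowUp.IsEffCartierIdeal J)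
    (x : X) : ∃ (V : S.affineOpens) (U : X.affineOpens) (_ : x ∈ U.1) (_ : U.1 ≤ f ⁻¹ᵁ V.1) (a b : Γ(X, U.1)),
      a ∈ nonZeroDivisors Γ(X, U.1) ∧ b ∈ nonZeroDivisors Γ(X, U.1) ∧ I.ideal U = Ideal.span {a} ∧
        J.ideal U = Ideal.span {b} := by
  obtain ⟨V, hV, hxV, -⟩ := exists_isAffineOpen_mem_and_subset (x := f x) (U := ⊤) trivial
  obtain ⟨U, hx, hU, h⟩ := exists_common hI hJ x (f ⁻¹ᵁ V) hxV
  exact ⟨⟨V, hV⟩, U, hx, hU, h⟩

lemma isEffCartier_mul {I J : X.IdealSheafData} (hI : BlowUp.IsEffCartierIdeal I)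
    (hJ : BlowUp.IsEffCartierIdeal J) : BlowUp.IsEffCartierIdeal (I * J) := fun x => by
  obtain ⟨U, hx, -, a, b, ha, hb, hIa, hJb⟩ := exists_common hI hJ x ⊤ trivial
  exact ⟨U, hx, a * b, mul_mem ha hb, by
    rw [Scheme.IdealSheafData.ideal_mul, Pi.mul_apply, hIa, hJb, Ideal.span_singleton_mul_span_singleton]⟩

theorem flat_mul {I J : X.IdealSheafData} (hI : BlowUp.IsEffCartierIdeal I) (hJ : BlowUp.IsEffCartierIdeal J)
    (hIf : Flat (I.subschemeι ≫ f)) (hJf : Flat (J.subschemeι ≫ f)) : Flat ((I * J).subschemeι ≫ f) := by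
  refine flat_of_quot f _ fun x _ => ?_
  obtain ⟨V, U, hx, e, a, b, ha, hb, hIa, hJb⟩ := exists_chart f hI hJ x
  refine ⟨V, U, hx, e, ?_⟩
  have h1 := flat_quot f I hIf V.2 U e
  have h2 := flat_quot f J hJf V.2 U e
  rw [hIa] at h1
  rw [hJb] at h2
  rw [Scheme.IdealSheafData.ideal_mul, Pi.mul_apply, hIa, hJb, Ideal.span_singleton_mul_span_singleton]
  algebraize [(f.appLE V.1 U.1 e).hom]
  have : Module.Flat Γ(S, V.1) (Γ(X, U.1) ⧸ Ideal.span {a}) := h1
  have : Module.Flat Γ(S, V.1) (Γ(X, U.1) ⧸ Ideal.span {b}) := h2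
  exact flat_quot_mul a b hb

theorem flat_div {I J : X.IdealSheafData} (hI : BlowUp.IsEffCartierIdeal I) (hJ : BlowUp.IsEffCartierIdeal J)
    (hJf : Flat (J.subschemeι ≫ f)) (hIJ : Flat ((I * J).subschemeι ≫ f)) : Flat (I.subschemeι ≫ f) := by
  refine flat_of_quot f _ fun x _ => ?_
  obtain ⟨V, U, hx, e, a, b, ha, hb, hIa, hJb⟩ := exists_chart f hI hJ x
  refine ⟨V, U, hx, e, ?_⟩
  have h1 := flat_quot f _ hIJ V.2 U e
  have h2 := flat_quot f J hJf V.2 U e
  rw [Scheme.IdealSheafData.ideal_mul, Pi.mul_apply, hIa, hJb, Ideal.span_singleton_mul_span_singleton] at h1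
  rw [hJb] at h2
  rw [hIa]
  algebraize [(f.appLE V.1 U.1 e).hom]
  have : Module.Flat Γ(S, V.1) (Γ(X, U.1) ⧸ Ideal.span {a * b}) := h1
  have : Module.Flat Γ(S, V.1) (Γ(X, U.1) ⧸ Ideal.span {b}) := h2
  exact flat_quot_div a b hb

theorem flat_stalk_of_mem {I : X.IdealSheafData} (hI : BlowUp.IsEffCartierIdeal I)
    (hIf : Flat (I.subschemeι ≫ f)) (x : X) (hx : x ∈ I.support) [IsNoetherianRing (X.presheaf.stalk x)] :
    (f.stalkMap x).hom.Flat := by
  obtain ⟨V, U, hxU, e, a, -, ha, -, hIa, -⟩ := exists_chart f hI hI x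
  have h1 := flat_quot f I hIf V.2 U e
  rw [hIa] at h1
  let β : Γ(S, V.1) →+* X.presheaf.stalk x :=
    (X.presheaf.germ U.1 x hxU).hom.comp (f.appLE V.1 U.1 e).hom
  letI := X.presheaf.algebra_section_stalk (⟨x, hxU⟩ : U.1)
  haveI : IsLocalization.AtPrime (X.presheaf.stalk x) (prm U hxU) := U.2.isLocalization_stalk ⟨x, hxU⟩
  set c := algebraMap Γ(X, U.1) (X.presheaf.stalk x) a with hc
  have hcn : c ∈ nonZeroDivisors (X.presheaf.stalk x) :=
    IsLocalization.map_nonZeroDivisors_le (prm U hxU).primeCompl (X.presheaf.stalk x) (Submonoid.mem_map_of_mem _ ha)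
  have hcm : c ∈ IsLocalRing.maximalIdeal (X.presheaf.stalk x) :=
    (IsLocalization.AtPrime.to_map_mem_maximal_iff _ (prm U hxU) a).2
      ((mem_support_iff_le I U hxU).1 hx (hIa ▸ Ideal.mem_span_singleton_self a))
  -- the quotient by the divisor at the point is a localization of the flat quotient
  have hquot : ((Ideal.Quotient.mk (Ideal.span {c})).comp β).Flat := by
    let π := Ideal.Quotient.mk (Ideal.span {a})
    let ψ : (Γ(X, U.1) ⧸ Ideal.span {a}) →+* X.presheaf.stalk x ⧸ Ideal.span {c} :=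
      Ideal.quotientMap _ (algebraMap Γ(X, U.1) (X.presheaf.stalk x))
        ((Ideal.span_singleton_le_iff_mem _).2 (Ideal.mem_comap.2 (Ideal.mem_span_singleton_self c)))
    have hψ : ψ.Flat := by
      letI := ψ.toAlgebra
      have hmap : Ideal.span {c} = (Ideal.span {a}).map (algebraMap Γ(X, U.1) (X.presheaf.stalk x)) := by
        rw [Ideal.map_span, Set.image_singleton]
      haveI : IsLocalization (Submonoid.map π (prm U hxU).primeCompl) (X.presheaf.stalk x ⧸ Ideal.span {c}) :=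
        IsLocalization.of_surjective (S := X.presheaf.stalk x) (prm U hxU).primeCompl π Ideal.Quotient.mk_surjective
          (Ideal.Quotient.mk (Ideal.span {c})) Ideal.Quotient.mk_surjective
          (RingHom.ext fun _ => rfl) (by rw [Ideal.mk_ker, Ideal.mk_ker]; exact hmap.le)
      exact IsLocalization.flat (X.presheaf.stalk x ⧸ Ideal.span {c}) (Submonoid.map π (prm U hxU).primeCompl)
    exact h1.comp hψ
  have hβ : β.Flat := by
    letI := β.toAlgebra
    haveI : Module.Flat Γ(S, V.1) (X.presheaf.stalk x ⧸ Ideal.span {c}) := hquot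
    exact flat_of_flat_quot hcn hcm
  -- descend along the localization of the base
  letI algS := S.presheaf.algebra_section_stalk (⟨f x, e hxU⟩ : V.1)
  haveI : IsLocalization.AtPrime (S.presheaf.stalk (f x)) (prm V (x := f x) (e hxU)) :=
    V.2.isLocalization_stalk ⟨f x, e hxU⟩
  letI := (f.stalkMap x).hom.toAlgebra
  letI := β.toAlgebra
  haveI : IsScalarTower Γ(S, V.1) (S.presheaf.stalk (f x)) (X.presheaf.stalk x) := by
    refine IsScalarTower.of_algebraMap_eq' ?_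
    show β = (f.stalkMap x).hom.comp (S.presheaf.germ V.1 (f x) (e hxU)).hom
    rw [← CommRingCat.hom_comp, Scheme.Hom.germ_stalkMap, Scheme.Hom.app_eq_appLE]
    show ((f.appLE V.1 U.1 e) ≫ X.presheaf.germ U.1 x hxU).hom = _
    congr 1
    rw [← X.presheaf.germ_res (homOfLE e) x hxU, ← Category.assoc, Scheme.Hom.appLE_map]
  exact (Module.flat_iff_of_isLocalization (S.presheaf.stalk (f x)) (prm V (x := f x) (e hxU)).primeCompl (M := X.presheaf.stalk x)).2 hβ

end SDivLib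

end
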