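import Groth.Agent.SDivLib.Stalk
import Mathlib.AlgebraicGeometry.Properties
import Mathlib.AlgebraicGeometry.IdealSheaf.Functorial
import Mathlib.RingTheory.Filtration
import Mathlib.RingTheory.Ideal.KrullsHeightTheorem
import Mathlib.Topology.Sober

/-! # The divisorial part of a closed subscheme covered by prime Cartier divisors -/

set_option autoImplicit false

universe u

open CategoryTheory AlgebraicGeometry TopologicalSpace Opposite IntMult

noncomputable section

namespace SDivLib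

section Algebra

variable {A : Type*} [CommRing A]

lemma pow_dvd_of_dvd_mul {f c h : A} (hf : f ∈ nonZeroDivisors A) (hp : (Ideal.span {f}).IsPrime)
    (hc : c ∉ Ideal.span {f}) : ∀ a : ℕ, f ^ a ∣ c * h → f ^ a ∣ h := by
  intro a
  induction a generalizing h with
  | zero => simp
  | succ a ih =>
    intro hd
    have h1 : f ∣ h := by
      have hm : c * h ∈ Ideal.span {f} := Ideal.mem_span_singleton.2 ((dvd_pow_self f a.succ_ne_zero).trans hd)
      exact Ideal.mem_span_singleton.1 ((hp.mem_or_mem hm).resolve_left hc)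
    obtain ⟨h', rfl⟩ := h1
    obtain ⟨q, hq⟩ := hd
    rw [pow_succ'] at hq ⊢
    refine mul_dvd_mul_left f (ih ⟨q, ?_⟩)
    refine sub_eq_zero.1 ((mem_nonZeroDivisors_iff_right.1 hf) _ ?_)
    linear_combination hq

/-- Divisibility by a product of powers of distinct prime nonzerodivisors. -/
lemma mem_prod_span_pow {ι : Type*} (s : Finset ι) (f : ι → A) (n : ι → ℕ) (g : A)
    (hsplit : ∀ i ∈ s, IsUnit (f i) ∨ (f i ∈ nonZeroDivisors A ∧ (Ideal.span {f i}).IsPrime ∧
      (∀ j ∈ s, j ≠ i → f j ∉ Ideal.span {f i}) ∧ ∃ c, c ∉ Ideal.span {f i} ∧ f i ^ n i ∣ c * g)) :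
    g ∈ ∏ i ∈ s, Ideal.span {f i} ^ n i := by
  classical
  simp only [Ideal.span_singleton_pow, Ideal.prod_span_singleton, Ideal.mem_span_singleton]
  induction s using Finset.induction with
  | empty => simp
  | insert i s hi ih =>
    obtain ⟨h, rfl⟩ := ih fun j hj => (hsplit j (Finset.mem_insert_of_mem hj)).imp_right
      fun ⟨h1, h2, h3, h4⟩ => ⟨h1, h2, fun l hl => h3 l (Finset.mem_insert_of_mem hl), h4⟩
    rw [Finset.prod_insert hi, mul_comm (f i ^ n i)]
    refine mul_dvd_mul_left _ ?_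
    rcases hsplit i (Finset.mem_insert_self i s) with hu | ⟨hf, hp, hne, c, hc, hdvd⟩
    · exact (hu.pow _).dvd
    · refine pow_dvd_of_dvd_mul hf hp (fun hmem => ?_) (n i) ((mul_assoc c _ h).symm ▸ hdvd)
      rcases hp.mem_or_mem hmem with h' | h'
      · exact hc h'
      · obtain ⟨j, hj, hj'⟩ := (Ideal.IsPrime.prod_mem_iff).1 h'
        exact hne j (Finset.mem_insert_of_mem hj) (fun e => hi (e ▸ hj)) (hp.mem_of_pow_mem _ hj')

end Algebra

variable {X : Scheme.{u}}

lemma exists_affine (x : X) : ∃ U : X.affineOpens, x ∈ U.1 := by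
  obtain ⟨U, hU, hx, -⟩ := exists_isAffineOpen_mem_and_subset (x := x) (U := ⊤) trivial
  exact ⟨⟨U, hU⟩, hx⟩

lemma exists_gen {D : X.IdealSheafData} (hD : BlowUp.IsEffCartierIdeal D) (x : X) :
    ∃ f : X.presheaf.stalk x, f ∈ nonZeroDivisors (X.presheaf.stalk x) ∧ stalkIdeal D x = Ideal.span {f} := by
  obtain ⟨U, hx, f, hf, he⟩ := hD x
  letI := X.presheaf.algebra_section_stalk (⟨x, hx⟩ : U.1)
  haveI : IsLocalization.AtPrime (X.presheaf.stalk x) (prm U hx) := U.2.isLocalization_stalk ⟨x, hx⟩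
  refine ⟨algebraMap Γ(X, U.1) _ f, ?_, ?_⟩
  · exact IsLocalization.map_nonZeroDivisors_le (prm U hx).primeCompl (X.presheaf.stalk x)
      (Submonoid.mem_map_of_mem _ hf)
  · rw [stalkIdeal_eq D U hx, he, Ideal.map_span, Set.image_singleton]
    rfl

lemma ideal_isPrime {D : X.IdealSheafData} [IsIntegral D.subscheme] (U : X.affineOpens) {x : X}
    (hx : x ∈ U.1) (hxD : x ∈ D.support) : (D.ideal U).IsPrime := by
  obtain ⟨y, hy⟩ : x ∈ Set.range D.subschemeι := by rw [Scheme.IdealSheafData.range_subschemeι]; exact hxD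
  haveI : Nonempty (D.subschemeι ⁻¹ᵁ U.1 : D.subscheme.Opens) := ⟨⟨y, by
    show D.subschemeι y ∈ U.1
    rw [hy]; exact hx⟩⟩
  haveI : IsDomain (Γ(X, U.1) ⧸ D.ideal U) :=
    (D.subschemeObjIso U).commRingCatIsoToRingEquiv.symm.toMulEquiv.isDomain Γ(D.subscheme, D.subschemeι ⁻¹ᵁ U.1)
  exact (Ideal.Quotient.isDomain_iff_prime _).1 inferInstance

lemma stalkIdeal_isPrime {D : X.IdealSheafData} [IsIntegral D.subscheme] {x : X} (hxD : x ∈ D.support) :
    (stalkIdeal D x).IsPrime := by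
  obtain ⟨U', hx⟩ := exists_affine x
  letI := X.presheaf.algebra_section_stalk (⟨x, hx⟩ : U'.1)
  haveI : IsLocalization.AtPrime (X.presheaf.stalk x) (prm U' hx) := U'.2.isLocalization_stalk ⟨x, hx⟩
  have h1 := ideal_isPrime U' hx hxD
  have h2 := (mem_support_iff_le D U' hx).1 hxD
  rw [stalkIdeal_eq D U' hx]
  exact IsLocalization.isPrime_of_isPrime_disjoint (prm U' hx).primeCompl (X.presheaf.stalk x) _ h1
    (Set.disjoint_left.2 fun a ha ha' => ha (h2 ha'))

variable [IsLocallyNoetherian X]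

instance isNoetherianRing_stalk (x : X) : IsNoetherianRing (X.presheaf.stalk x) := by
  obtain ⟨U, hx⟩ := exists_affine x
  haveI : IsNoetherianRing Γ(X, U.1) := IsLocallyNoetherian.component_noetherian U
  letI := X.presheaf.algebra_section_stalk (⟨x, hx⟩ : U.1)
  haveI : IsLocalization.AtPrime (X.presheaf.stalk x) (prm U hx) := U.2.isLocalization_stalk ⟨x, hx⟩
  exact IsLocalization.isNoetherianRing (prm U hx).primeCompl _ inferInstance

/-- A point of codimension at most one on a prime Cartier divisor is its generic point. -/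
lemma stalkIdeal_eq_maximal {D : X.IdealSheafData} (hD : BlowUp.IsEffCartierIdeal D) [IsIntegral D.subscheme]
    {x : X} (hxD : x ∈ D.support) (hdim : ringKrullDim (X.presheaf.stalk x) ≤ 1) :
    stalkIdeal D x = IsLocalRing.maximalIdeal (X.presheaf.stalk x) := by
  obtain ⟨f, hf, he⟩ := exists_gen hD x
  have hp := stalkIdeal_isPrime hxD
  by_contra hne
  have hlt : stalkIdeal D x < IsLocalRing.maximalIdeal _ :=
    lt_of_le_of_ne (IsLocalRing.le_maximalIdeal hp.ne_top) hne
  obtain ⟨q, hq, hqle⟩ := Ideal.exists_minimalPrimes_le (I := (⊥ : Ideal (X.presheaf.stalk x))) (J := stalkIdeal D x) bot_le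
  have hqp : q.IsPrime := hq.1.1
  have hfq : f ∉ q := fun h => Set.disjoint_left.1 (Ideal.disjoint_nonZeroDivisors_of_mem_minimalPrimes hq) h hf
  have hlt2 : q < stalkIdeal D x := lt_of_le_of_ne hqle fun h =>
    hfq (by rw [h, he]; exact Ideal.mem_span_singleton_self f)
  let s : LTSeries (PrimeSpectrum (X.presheaf.stalk x)) :=
    ((RelSeries.singleton _ ⟨q, hqp⟩).snoc ⟨_, hp⟩ hlt2).snoc
      ⟨_, (IsLocalRing.maximalIdeal.isMaximal _).isPrime⟩ (by simp only [RelSeries.last_snoc]; exact hlt)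
  have h2 : ((s.length : ℕ∞) : WithBot ℕ∞) ≤ 1 := (Order.LTSeries.length_le_krullDim s).trans hdim
  have h3 : s.length ≤ 1 := by exact_mod_cast h2
  simp [s] at h3

lemma prm_eq_ideal {D : X.IdealSheafData} (hD : BlowUp.IsEffCartierIdeal D) [IsIntegral D.subscheme]
    (U : X.affineOpens) {x : X} (hx : x ∈ U.1) (hxD : x ∈ D.support)
    (hdim : ringKrullDim (X.presheaf.stalk x) ≤ 1) : prm U hx = D.ideal U := by
  refine le_antisymm ?_ ((mem_support_iff_le D U hx).1 hxD)
  letI := X.presheaf.algebra_section_stalk (⟨x, hx⟩ : U.1)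
  haveI : IsLocalization.AtPrime (X.presheaf.stalk x) (prm U hx) := U.2.isLocalization_stalk ⟨x, hx⟩
  have h1 := ideal_isPrime U hx hxD
  have h2 := (mem_support_iff_le D U hx).1 hxD
  have h3 := stalkIdeal_eq_maximal hD hxD hdim
  rw [stalkIdeal_eq D U hx] at h3
  intro a ha
  have h4 : algebraMap Γ(X, U.1) (X.presheaf.stalk x) a ∈ (D.ideal U).map (algebraMap Γ(X, U.1) (X.presheaf.stalk x)) :=
    h3.symm.le ((IsLocalization.AtPrime.to_map_mem_maximal_iff _ (prm U hx) a).2 ha)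
  obtain ⟨t, ht, hta⟩ := (IsLocalization.algebraMap_mem_map_algebraMap_iff (prm U hx).primeCompl _ _ _).1 h4
  exact (h1.mem_or_mem hta).resolve_left fun h => ht (h2 h)

/-- Two codimension one points on the same prime Cartier divisor coincide, and the divisor lies below. -/
lemma specializes_of_mem {D : X.IdealSheafData} (hD : BlowUp.IsEffCartierIdeal D) [IsIntegral D.subscheme]
    {z x : X} (hzD : z ∈ D.support) (hdim : ringKrullDim (X.presheaf.stalk z) ≤ 1) (hxD : x ∈ D.support) :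
    z ⤳ x := by
  obtain ⟨U', hx⟩ := exists_affine x
  by_cases hz : z ∈ U'.1
  · rw [specializes_iff_prm U' hx hz, prm_eq_ideal hD U' hz hzD hdim]
    exact (mem_support_iff_le D U' hx).1 hxD
  · exfalso
    obtain ⟨y₁, hy₁⟩ : z ∈ Set.range D.subschemeι := by rw [Scheme.IdealSheafData.range_subschemeι]; exact hzD
    obtain ⟨y₂, hy₂⟩ : x ∈ Set.range D.subschemeι := by rw [Scheme.IdealSheafData.range_subschemeι]; exact hxD
    let w := D.subschemeι (genericPoint D.subscheme)
    have hw₁ : w ⤳ z := hy₁ ▸ (genericPoint_specializes y₁).map D.subschemeι.continuous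
    have hw₂ : w ⤳ x := hy₂ ▸ (genericPoint_specializes y₂).map D.subschemeι.continuous
    have hwD : w ∈ D.support := by
      rw [← SetLike.mem_coe, ← Scheme.IdealSheafData.range_subschemeι]; exact ⟨_, rfl⟩
    obtain ⟨V, hzV⟩ := exists_affine z
    have hwV : w ∈ V.1 := hw₁.mem_open V.1.2 hzV
    have he : w = z := (hw₁.antisymm ((specializes_iff_prm V hwV hzV).2 (by
      rw [prm_eq_ideal hD V hzV hzD hdim]
      exact (mem_support_iff_le D V hwV).1 hwD))).eq
    exact hz (he ▸ hw₂.mem_open U'.1.2 hx)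

variable {I : Type u} (𝓓 : I → X.IdealSheafData) (𝓩 : X.IdealSheafData)
  (hD : ∀ i, BlowUp.IsEffCartierIdeal (𝓓 i))
  (Z' : Set X) (hZ' : IsClosed Z')
  (hcodim : ∀ z ∈ Z', (∀ y ∈ Z', y ⤳ z → y = z) → (2 : WithBot ℕ∞) ≤ ringKrullDim (X.presheaf.stalk z))
  (hcover : (𝓩.support : Set X) ⊆ Z' ∪ ⋃ i, ((𝓓 i).support : Set X))

include hZ' hcodim hcover

lemma exists_mem_of_dim_le {x : X} (hx : x ∈ 𝓩.support) (hdim : ringKrullDim (X.presheaf.stalk x) ≤ 1) :
    ∃ i, x ∈ (𝓓 i).support := by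
  rcases hcover hx with h | h
  · exfalso
    have : QuasiSober Z' := hZ'.isClosedEmbedding_subtypeVal.quasiSober
    obtain ⟨T, hT, hxT⟩ : ∃ T ∈ irreducibleComponents Z', (⟨x, h⟩ : Z') ∈ T :=
      ⟨irreducibleComponent (⟨x, h⟩ : Z'), irreducibleComponent_mem_irreducibleComponents _,
        mem_irreducibleComponent⟩
    have hTi : IsIrreducible T := hT.1
    have hg := hTi.isGenericPoint_genericPoint (isClosed_of_mem_irreducibleComponents T hT)
    have hwx : (hTi.genericPoint.1 : X) ⤳ x := (subtype_specializes_iff _ _).1 (hg.specializes hxT)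
    have h2 := hcodim _ hTi.genericPoint.2 fun y hy hyw => by
      have hy' : (⟨y, hy⟩ : Z') ⤳ hTi.genericPoint := (subtype_specializes_iff _ _).2 hyw
      have h3 : T ⊆ closure {(⟨y, hy⟩ : Z')} := hg.def ▸ hy'.closure_subset
      have h4 : closure {(⟨y, hy⟩ : Z')} = T :=
        Set.Subset.antisymm (hT.2 isIrreducible_singleton.closure h3) h3
      exact congrArg Subtype.val ((show IsGenericPoint (⟨y, hy⟩ : Z') T from h4).eq hg)
    have h3 := h2.trans ((ringKrullDim_stalk_mono hwx).trans hdim)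
    exact absurd (show (2 : ℕ) ≤ 1 by exact_mod_cast h3) (by omega)
  · exact Set.mem_iUnion.1 h

include hD

lemma one_le_dim {x : X} (hx : x ∈ 𝓩.support) : ¬ ringKrullDim (X.presheaf.stalk x) = 0 := by
  intro h0
  obtain ⟨i, hi⟩ := exists_mem_of_dim_le 𝓓 𝓩 Z' hZ' hcodim hcover hx (h0 ▸ zero_le_one)
  obtain ⟨f, hf, he⟩ := exists_gen (hD i) x
  have hm : f ∈ IsLocalRing.maximalIdeal (X.presheaf.stalk x) :=
    IsLocalRing.le_maximalIdeal ((mem_support_iff_stalk _ x).1 hi) (he ▸ Ideal.mem_span_singleton_self f)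
  have : Ring.KrullDimLE 0 (X.presheaf.stalk x) := Ring.krullDimLE_iff.2 h0.le
  have hmin : IsLocalRing.maximalIdeal (X.presheaf.stalk x) ∈ minimalPrimes (X.presheaf.stalk x) :=
    Ideal.mem_minimalPrimes_of_krullDimLE_zero _
  exact Set.disjoint_left.1 (Ideal.disjoint_nonZeroDivisors_of_mem_minimalPrimes hmin) hm hf

lemma eq_of_specializes {x y : X} (hx : ringKrullDim (X.presheaf.stalk x) ≤ 1) (hy : y ∈ 𝓩.support)
    (h : y ⤳ x) : y = x := by
  by_contra hne
  obtain ⟨U', hxU⟩ := exists_affine x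
  have hyU : y ∈ U'.1 := h.mem_open U'.1.2 hxU
  haveI : IsNoetherianRing Γ(X, U'.1) := IsLocallyNoetherian.component_noetherian U'
  have hlt : prm U' hyU < prm U' hxU := lt_of_le_of_ne ((specializes_iff_prm U' hxU hyU).1 h) fun e =>
    hne (h.antisymm ((specializes_iff_prm U' hyU hxU).2 e.ge)).eq
  apply one_le_dim 𝓓 𝓩 hD Z' hZ' hcodim hcover hy
  rw [ringKrullDim_stalk U' hxU] at hx
  rw [ringKrullDim_stalk U' hyU]
  have h1 := Ideal.height_strict_mono_of_isPrime hlt
  have hx' : (prm U' hxU).height ≤ 1 := WithBot.coe_le_coe.1 hx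
  exact congrArg _ (ENat.lt_one_iff_eq_zero.1 (h1.trans_le hx'))

omit hD hZ' hcodim hcover in
lemma exists_pow_eq {A : Type u} [CommRing A] [IsLocalRing A] [IsNoetherianRing A] {f : A}
    (hm : IsLocalRing.maximalIdeal A = Ideal.span {f}) {J : Ideal A} (hJ : J ≠ ⊥) :
    ∃ n : ℕ, J = Ideal.span {f} ^ n := by
  classical
  have hne : ∃ n, ¬ J ≤ Ideal.span {f} ^ n := by
    by_contra! h
    refine hJ (le_bot_iff.1 ((le_iInf h).trans (le_of_eq ?_)))
    exact Ideal.iInf_pow_eq_bot_of_isLocalRing _ (hm ▸ (IsLocalRing.maximalIdeal.isMaximal A).ne_top)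
  obtain ⟨n, hn⟩ : ∃ n, Nat.find hne = n + 1 := by
    refine Nat.exists_eq_succ_of_ne_zero fun h0 => Nat.find_spec hne ?_
    rw [h0]; simp
  have hle : J ≤ Ideal.span {f} ^ n := not_not.1 (Nat.find_min hne (by omega))
  refine ⟨n, le_antisymm hle ?_⟩
  obtain ⟨g, hg, hgn⟩ := SetLike.not_le_iff_exists.1 (hn ▸ Nat.find_spec hne)
  have h1 := hle hg
  rw [Ideal.span_singleton_pow, Ideal.mem_span_singleton] at h1 hgn
  rw [Ideal.span_singleton_pow, Ideal.span_singleton_le_iff_mem]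
  obtain ⟨u, rfl⟩ := h1
  have hu : IsUnit u := by
    by_contra hu
    obtain ⟨v, rfl⟩ := Ideal.mem_span_singleton.1 (hm ▸ (IsLocalRing.mem_maximalIdeal u).2 hu :
      u ∈ Ideal.span {f})
    exact hgn ⟨v, by ring⟩
  exact (Ideal.mul_unit_mem_iff_mem J hu).1 hg

lemma exists_ord {z : X} {i : I} [IsIntegral (𝓓 i).subscheme] (hz : z ∈ 𝓩.support) (hi : z ∈ (𝓓 i).support)
    (hdim : ringKrullDim (X.presheaf.stalk z) ≤ 1) :
    ∃ n : ℕ, stalkIdeal 𝓩 z = stalkIdeal (𝓓 i) z ^ n := by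
  obtain ⟨f, hf, he⟩ := exists_gen (hD i) z
  have hm := stalkIdeal_eq_maximal (hD i) hi hdim
  refine (exists_pow_eq (hm.symm.trans he) ?_).imp fun n hn => he ▸ hn
  intro hbot
  obtain ⟨q, hq⟩ := Ideal.nonempty_minimalPrimes (I := (⊥ : Ideal (X.presheaf.stalk z))) bot_ne_top
  have hqp : q.IsPrime := hq.1.1
  obtain ⟨U', hzU⟩ := exists_affine z
  letI := X.presheaf.algebra_section_stalk (⟨z, hzU⟩ : U'.1)
  haveI : IsLocalization.AtPrime (X.presheaf.stalk z) (prm U' hzU) := U'.2.isLocalization_stalk ⟨z, hzU⟩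
  obtain ⟨y, hyU, hy⟩ := exists_point U' (q.comap (algebraMap Γ(X, U'.1) (X.presheaf.stalk z)))
  have hle : prm U' hyU ≤ prm U' hzU := by
    rw [hy]
    exact fun a ha => (IsLocalization.AtPrime.to_map_mem_maximal_iff _ (prm U' hzU) a).1
      (IsLocalRing.le_maximalIdeal hqp.ne_top ha)
  have hyZ : y ∈ 𝓩.support := by
    rw [mem_support_iff_le 𝓩 U' hyU, hy]
    intro a ha
    have h1 : algebraMap Γ(X, U'.1) (X.presheaf.stalk z) a ∈ stalkIdeal 𝓩 z := by
      rw [stalkIdeal_eq 𝓩 U' hzU]; exact Ideal.mem_map_of_mem _ ha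
    rw [hbot] at h1
    rw [Ideal.mem_comap, Submodule.mem_bot _ |>.1 h1]
    exact zero_mem q
  have hyz := eq_of_specializes 𝓓 𝓩 hD Z' hZ' hcodim hcover hdim hyZ ((specializes_iff_prm U' hzU hyU).2 hle)
  subst hyz
  have hqm : q = IsLocalRing.maximalIdeal _ := by
    refine le_antisymm (IsLocalRing.le_maximalIdeal hqp.ne_top) ?_
    have h1 : (q.comap (algebraMap Γ(X, U'.1) (X.presheaf.stalk y))).map (algebraMap Γ(X, U'.1) (X.presheaf.stalk y)) = q :=
      IsLocalization.map_under (prm U' hzU).primeCompl (X.presheaf.stalk y) q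
    rw [← h1, ← hy]
    exact (IsLocalization.AtPrime.map_eq_maximalIdeal (prm U' hzU) (X.presheaf.stalk y)).ge
  exact Set.disjoint_left.1 (Ideal.disjoint_nonZeroDivisors_of_mem_minimalPrimes hq)
    (hqm ▸ hm ▸ he ▸ Ideal.mem_span_singleton_self f : f ∈ q) hf

/-- The main construction. -/
theorem exists_divisorial [CompactSpace X] (hDint : ∀ i, IsIntegral (𝓓 i).subscheme) :
    ∃ a : I →₀ ℕ, 𝓩 ≤ a.prod (fun i n => 𝓓 i ^ n) ∧
      ∀ x ∈ 𝓩.support, ringKrullDim (X.presheaf.stalk x) ≤ 1 →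
        stalkIdeal (a.prod (fun i n => 𝓓 i ^ n)) x = stalkIdeal 𝓩 x := by
  classical
  haveI : AlgebraicGeometry.IsNoetherian X := {}
  have hfin : {z : X | z ∈ 𝓩.support ∧ ringKrullDim (X.presheaf.stalk z) ≤ 1}.Finite := by
    haveI : NoetherianSpace ↥(𝓩.support : Set X) := inferInstance
    have hF := NoetherianSpace.finite_irreducibleComponents (α := ↥(𝓩.support : Set X))
    refine Set.Finite.subset ((hF.biUnion fun T hT => Set.Subsingleton.finite (s := {x : X |
      ∃ h : x ∈ 𝓩.support, IsGenericPoint (⟨x, h⟩ : ↥(𝓩.support : Set X)) T}) ?_)) ?_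
    · rintro x ⟨hx, hx'⟩ y ⟨hy, hy'⟩
      exact congrArg Subtype.val (hx'.eq hy')
    · rintro z ⟨hz, hdim⟩
      let z' : ↥(𝓩.support : Set X) := ⟨z, hz⟩
      refine Set.mem_iUnion₂.2 ⟨closure {z'}, ⟨isIrreducible_singleton.closure, fun T hT hsub => ?_⟩, hz, rfl⟩
      have : QuasiSober ↥(𝓩.support : Set X) := 𝓩.support.isClosed.isClosedEmbedding_subtypeVal.quasiSober
      have hg := hT.isGenericPoint_genericPoint_closure
      have h1 : hT.genericPoint ⤳ z' := hg.specializes (subset_closure (hsub (subset_closure rfl)))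
      have h2 : hT.genericPoint = z' := Subtype.ext
        (eq_of_specializes 𝓓 𝓩 hD Z' hZ' hcodim hcover hdim hT.genericPoint.2 ((subtype_specializes_iff _ _).1 h1))
      exact subset_closure.trans (hg.def.symm.le.trans (by rw [h2]))
  let S := hfin.toFinset
  have hS : ∀ z : S, z.1 ∈ 𝓩.support ∧ ringKrullDim (X.presheaf.stalk z.1) ≤ 1 := fun z => hfin.mem_toFinset.1 z.2
  choose i hi using fun z : S => exists_mem_of_dim_le 𝓓 𝓩 Z' hZ' hcodim hcover (hS z).1 (hS z).2
  have hint : ∀ z : S, IsIntegral (𝓓 (i z)).subscheme := fun z => hDint _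
  choose n hn using fun z : S =>
    exists_ord 𝓓 𝓩 hD Z' hZ' hcodim hcover (hS z).1 (hi z) (hS z).2
  let a : I →₀ ℕ := ∑ z : S, Finsupp.single (i z) (n z)
  have hprod : a.prod (fun j m => 𝓓 j ^ m) = ∏ z : S, 𝓓 (i z) ^ n z := by
    rw [← Finsupp.prod_finsetSum_index (fun _ => pow_zero _) (fun _ _ _ => pow_add _ _ _)]
    exact Finset.prod_congr rfl fun z _ => Finsupp.prod_single_index (pow_zero _)
  have hgen : ∀ (z w : S), z.1 ∈ (𝓓 (i w)).support → z = w := fun z w hzw => Subtype.ext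
    ((specializes_of_mem (hD _) hzw (hS z).2 (hi w)).antisymm
      (specializes_of_mem (hD _) (hi w) (hS w).2 hzw)).eq
  refine ⟨a, ?_, fun x hx hdim => ?_⟩
  · rw [hprod]
    refine le_of_stalk fun x => ?_
    simp only [stalkIdeal_prod, stalkIdeal_pow]
    choose f hf he using fun z : S => exists_gen (hD (i z)) x
    simp only [he]
    intro g hg
    refine mem_prod_span_pow _ f n g fun z _ => ?_
    by_cases hxz : x ∈ (𝓓 (i z)).support
    swap
    · left
      rw [← Ideal.span_singleton_eq_top, ← he]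
      exact not_not.1 ((mem_support_iff_stalk _ x).not.1 hxz)
    right
    have hzx : z.1 ⤳ x := specializes_of_mem (hD _) (hi z) (hS z).2 hxz
    obtain ⟨U', hxU⟩ := exists_affine x
    have hzU : z.1 ∈ U'.1 := hzx.mem_open U'.1.2 hxU
    letI := X.presheaf.algebra_section_stalk (⟨x, hxU⟩ : U'.1)
    haveI : IsLocalization.AtPrime (X.presheaf.stalk x) (prm U' hxU) := U'.2.isLocalization_stalk ⟨x, hxU⟩
    have hpz : prm U' hzU = (𝓓 (i z)).ideal U' := prm_eq_ideal (hD _) U' hzU (hi z) (hS z).2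
    -- sections not vanishing at the generic point stay outside the prime at `x`
    have hout : ∀ s : Γ(X, U'.1), s ∉ prm U' hzU →
        algebraMap Γ(X, U'.1) (X.presheaf.stalk x) s ∉ Ideal.span {f z} := by
      intro s hs hmem
      rw [← he, stalkIdeal_eq _ U' hxU] at hmem
      obtain ⟨t, ht, hts⟩ := (IsLocalization.algebraMap_mem_map_algebraMap_iff (prm U' hxU).primeCompl _ _ _).1 hmem
      rw [← hpz] at hts
      exact ((prm_isPrime U' hzU).mem_or_mem hts).elim
        (fun h => ht ((specializes_iff_prm U' hxU hzU).1 hzx h)) hs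
    refine ⟨hf z, he z ▸ stalkIdeal_isPrime hxz, fun w _ hwz hmem => ?_, ?_⟩
    · obtain ⟨s, hsD, hsz⟩ : ∃ s ∈ (𝓓 (i w)).ideal U', s ∉ prm U' hzU := by
        by_contra! h
        exact hwz (hgen z w ((mem_support_iff_le _ U' hzU).2 h)).symm
      refine hout s hsz ?_
      have hle : stalkIdeal (𝓓 (i w)) x ≤ Ideal.span {f z} := by
        rw [he w, Ideal.span_singleton_le_iff_mem]; exact hmem
      exact hle (by rw [stalkIdeal_eq _ U' hxU]; exact Ideal.mem_map_of_mem _ hsD)
    · obtain ⟨s, hs, hsI⟩ := exists_mul_le U' hzU (I := 𝓩) (J := 𝓓 (i z) ^ n z)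
        ((hn z).trans (stalkIdeal_pow _ _ _).symm).le
      refine ⟨_, hout s hs, Ideal.mem_span_singleton.1 ?_⟩
      rw [← Ideal.span_singleton_pow, ← he z, ← stalkIdeal_pow, stalkIdeal_eq _ U' hxU]
      rw [stalkIdeal_eq _ U' hxU] at hg
      have hgs := Ideal.mul_mem_mul (Ideal.mem_span_singleton_self (algebraMap Γ(X, U'.1) (X.presheaf.stalk x) s)) hg
      rw [← Set.image_singleton, ← Ideal.map_span] at hgs
      refine (le_of_eq (Ideal.map_mul _ _ _).symm).trans (Ideal.map_mono ?_) hgs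
      rw [Ideal.mul_le]
      intro c hc d hd
      obtain ⟨c, rfl⟩ := Ideal.mem_span_singleton'.1 hc
      rw [mul_assoc]
      exact Ideal.mul_mem_left _ _ (hsI d hd)
  · have hxS : x ∈ S := hfin.mem_toFinset.2 ⟨hx, hdim⟩
    rw [hprod, stalkIdeal_prod, Finset.prod_eq_single_of_mem (⟨x, hxS⟩ : S) (Finset.mem_univ _),
      stalkIdeal_pow, ← hn ⟨x, hxS⟩]
    intro w _ hw
    rw [stalkIdeal_pow, not_not.1 ((mem_support_iff_stalk _ x).not.1 fun h => hw (hgen ⟨x, hxS⟩ w h).symm),
      ← Ideal.one_eq_top, one_pow]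

end SDivLib

end
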