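import Groth.Prelude.Def_IntMult
import Groth.Prelude.Def_BlowUp2
import Groth.Agent.AssPointLib.Basic
import Mathlib.AlgebraicGeometry.Noetherian
import Mathlib.AlgebraicGeometry.IdealSheaf.Subscheme
import Mathlib.RingTheory.LocalProperties.Basic

/-! # Stalks of ideal sheaves -/

set_option autoImplicit false

universe u

open CategoryTheory AlgebraicGeometry TopologicalSpace Opposite

noncomputable section

namespace SDivLib

variable {X : Scheme.{u}}

/-- The prime of a point of an affine open. -/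
def prm (U : X.affineOpens) {x : X} (hx : x ∈ U.1) : Ideal Γ(X, U.1) := (U.2.primeIdealOf ⟨x, hx⟩).asIdeal

instance prm_isPrime (U : X.affineOpens) {x : X} (hx : x ∈ U.1) : (prm U hx).IsPrime :=
  (U.2.primeIdealOf ⟨x, hx⟩).2

lemma stalkIdeal_eq (I : X.IdealSheafData) {x : X} (U : X.affineOpens) (hx : x ∈ U.1) :
    IntMult.stalkIdeal I x = (I.ideal U).map (X.presheaf.germ U.1 x hx).hom := by
  refine le_antisymm (iSup₂_le fun V hV => ?_) (le_iSup₂_of_le U hx le_rfl)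
  obtain ⟨f, g, hfg, hxf⟩ := exists_basicOpen_le_affine_inter U.2 V.2 x ⟨hx, hV⟩
  let W : X.affineOpens := X.affineBasicOpen f
  have hWU : W ≤ U := X.affineBasicOpen_le f
  have hWV : W ≤ V := fun y hy => X.basicOpen_le g (hfg ▸ hy)
  have key : ∀ (U' : X.affineOpens) (hx' : x ∈ U'.1) (h : W ≤ U'),
      (I.ideal U').map (X.presheaf.germ U'.1 x hx').hom = (I.ideal W).map (X.presheaf.germ W.1 x hxf).hom := by
    intro U' hx' h
    rw [← I.map_ideal h, Ideal.map_map, ← CommRingCat.hom_comp]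
    exact congrArg (fun f : Γ(X, U'.1) ⟶ X.presheaf.stalk x => Ideal.map f.hom (I.ideal U'))
      (X.presheaf.germ_res (homOfLE h) x hxf).symm
  rw [key U hx hWU, key V hV hWV]

lemma stalkIdeal_mul (I J : X.IdealSheafData) (x : X) :
    IntMult.stalkIdeal (I * J) x = IntMult.stalkIdeal I x * IntMult.stalkIdeal J x := by
  obtain ⟨U, hU, hxU, -⟩ := exists_isAffineOpen_mem_and_subset (x := x) (U := ⊤) trivial
  rw [stalkIdeal_eq _ ⟨U, hU⟩ hxU, stalkIdeal_eq _ ⟨U, hU⟩ hxU, stalkIdeal_eq _ ⟨U, hU⟩ hxU,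
    Scheme.IdealSheafData.ideal_mul, Pi.mul_apply, Ideal.map_mul]

lemma stalkIdeal_one (x : X) : IntMult.stalkIdeal (1 : X.IdealSheafData) x = ⊤ := by
  obtain ⟨U, hU, hxU, -⟩ := exists_isAffineOpen_mem_and_subset (x := x) (U := ⊤) trivial
  rw [stalkIdeal_eq _ ⟨U, hU⟩ hxU, Scheme.IdealSheafData.one_eq_top, Scheme.IdealSheafData.ideal_top,
    Pi.top_apply, Ideal.map_top]

/-- The stalk as a homomorphism of monoids. -/
def stalkHom (x : X) : X.IdealSheafData →* Ideal (X.presheaf.stalk x) where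
  toFun I := IntMult.stalkIdeal I x
  map_one' := (stalkIdeal_one x).trans Ideal.one_eq_top.symm
  map_mul' I J := stalkIdeal_mul I J x

lemma stalkIdeal_pow (I : X.IdealSheafData) (n : ℕ) (x : X) :
    IntMult.stalkIdeal (I ^ n) x = IntMult.stalkIdeal I x ^ n := map_pow (stalkHom x) I n

lemma stalkIdeal_prod {ι : Type*} (s : Finset ι) (I : ι → X.IdealSheafData) (x : X) :
    IntMult.stalkIdeal (∏ i ∈ s, I i) x = ∏ i ∈ s, IntMult.stalkIdeal (I i) x := map_prod (stalkHom x) I s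

lemma mem_prm_iff (U : X.affineOpens) {x : X} (hx : x ∈ U.1) (a : Γ(X, U.1)) :
    a ∈ prm U hx ↔ ¬ IsUnit ((X.presheaf.germ U.1 x hx).hom a) :=
  letI := X.presheaf.algebra_section_stalk (⟨x, hx⟩ : U.1)
  haveI : IsLocalization.AtPrime (X.presheaf.stalk x) (prm U hx) := U.2.isLocalization_stalk ⟨x, hx⟩
  (IsLocalization.AtPrime.to_map_mem_maximal_iff (X.presheaf.stalk x) (prm U hx) a).symm.trans
    (IsLocalRing.mem_maximalIdeal _)

lemma mem_support_iff_le (I : X.IdealSheafData) (U : X.affineOpens) {x : X} (hx : x ∈ U.1) :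
    x ∈ I.support ↔ I.ideal U ≤ prm U hx := by
  rw [Scheme.IdealSheafData.mem_support_iff_of_mem (U := U) hx, Scheme.mem_zeroLocus_iff]
  refine forall₂_congr fun a _ => ?_
  rw [mem_prm_iff, X.mem_basicOpen a x hx]

lemma mem_support_iff_stalk (I : X.IdealSheafData) (x : X) :
    x ∈ I.support ↔ IntMult.stalkIdeal I x ≠ ⊤ := by
  obtain ⟨U, hU, hxU, -⟩ := exists_isAffineOpen_mem_and_subset (x := x) (U := ⊤) trivial
  rw [stalkIdeal_eq _ ⟨U, hU⟩ hxU, mem_support_iff_le _ ⟨U, hU⟩ hxU]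
  constructor
  · intro h htop
    have h2 : (I.ideal ⟨U, hU⟩).map (X.presheaf.germ U x hxU).hom ≤ IsLocalRing.maximalIdeal _ :=
      Ideal.map_le_iff_le_comap.2 fun a ha => (IsLocalRing.mem_maximalIdeal _).2 ((mem_prm_iff _ _ _).1 (h ha))
    rw [htop] at h2
    exact (IsLocalRing.maximalIdeal.isMaximal _).ne_top (top_le_iff.1 h2)
  · intro h a ha
    exact (mem_prm_iff (⟨U, hU⟩ : X.affineOpens) hxU a).2 fun hu =>
      h (Ideal.eq_top_of_isUnit_mem _ (Ideal.mem_map_of_mem _ ha) hu)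

lemma exists_point (U : X.affineOpens) (P : Ideal Γ(X, U.1)) [hP : P.IsPrime] :
    ∃ (x : X) (hx : x ∈ U.1), prm U hx = P := by
  refine ⟨U.2.fromSpec ⟨P, hP⟩, U.2.opensRange_fromSpec.le ⟨_, rfl⟩, ?_⟩
  exact congrArg PrimeSpectrum.asIdeal
    (U.2.fromSpec.isOpenEmbedding.injective (U.2.fromSpec_primeIdealOf ⟨_, _⟩))

lemma specializes_iff_prm (U : X.affineOpens) {x y : X} (hx : x ∈ U.1) (hy : y ∈ U.1) :
    y ⤳ x ↔ prm U hy ≤ prm U hx := by
  rw [show prm U hy ≤ prm U hx ↔ U.2.primeIdealOf ⟨y, hy⟩ ≤ U.2.primeIdealOf ⟨x, hx⟩ from Iff.rfl,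
    PrimeSpectrum.le_iff_specializes]
  refine Iff.trans (iff_of_eq ?_) U.2.fromSpec.isOpenEmbedding.isInducing.specializes_iff
  exact congrArg₂ Specializes (U.2.fromSpec_primeIdealOf ⟨y, hy⟩).symm (U.2.fromSpec_primeIdealOf ⟨x, hx⟩).symm

lemma ringKrullDim_stalk (U : X.affineOpens) {x : X} (hx : x ∈ U.1) :
    ringKrullDim (X.presheaf.stalk x) = ((prm U hx).height : WithBot ℕ∞) := by
  letI := X.presheaf.algebra_section_stalk (⟨x, hx⟩ : U.1)
  haveI : IsLocalization.AtPrime (X.presheaf.stalk x) (prm U hx) := U.2.isLocalization_stalk ⟨x, hx⟩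
  exact IsLocalization.AtPrime.ringKrullDim_eq_height (prm U hx) (X.presheaf.stalk x)

lemma ringKrullDim_stalk_mono {x y : X} (h : y ⤳ x) :
    ringKrullDim (X.presheaf.stalk y) ≤ ringKrullDim (X.presheaf.stalk x) := by
  obtain ⟨U, hU, hxU, -⟩ := exists_isAffineOpen_mem_and_subset (x := x) (U := ⊤) trivial
  have hyU : y ∈ U := h.mem_open U.2 hxU
  rw [ringKrullDim_stalk ⟨U, hU⟩ hxU, ringKrullDim_stalk ⟨U, hU⟩ hyU]
  exact WithBot.coe_le_coe.2 (Ideal.height_mono ((specializes_iff_prm ⟨U, hU⟩ hxU hyU).1 h))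

/-- Inclusions of ideal sheaves are stalkwise. -/
lemma le_of_stalk {I J : X.IdealSheafData}
    (h : ∀ x, IntMult.stalkIdeal I x ≤ IntMult.stalkIdeal J x) : I ≤ J := by
  intro U
  refine Ideal.le_of_localization_maximal fun P hP => ?_
  obtain ⟨x, hx, rfl⟩ := exists_point U P
  letI := X.presheaf.algebra_section_stalk (⟨x, hx⟩ : U.1)
  haveI : IsLocalization.AtPrime (X.presheaf.stalk x) (prm U hx) := U.2.isLocalization_stalk ⟨x, hx⟩
  let e := IsLocalization.algEquiv (prm U hx).primeCompl (X.presheaf.stalk x) (Localization.AtPrime (prm U hx))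
  have h1 := h x
  rw [stalkIdeal_eq I U hx, stalkIdeal_eq J U hx] at h1
  have h2 := Ideal.map_mono (f := e.toAlgHom.toRingHom) h1
  rw [Ideal.map_map, Ideal.map_map] at h2
  rw [show algebraMap Γ(X, U.1) (Localization.AtPrime (prm U hx)) =
    e.toAlgHom.toRingHom.comp (X.presheaf.germ U.1 x hx).hom from (AlgHom.comp_algebraMap e.toAlgHom).symm]
  exact h2

lemma ideal_map_basicOpen_eq {I J : X.IdealSheafData} (U : X.affineOpens) (s : Γ(X, U.1))
    (hI : ∀ a ∈ I.ideal U, s * a ∈ J.ideal U) (hJ : ∀ a ∈ J.ideal U, s * a ∈ I.ideal U) :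
    I.ideal (X.affineBasicOpen s) = J.ideal (X.affineBasicOpen s) := by
  rw [← I.map_ideal_basicOpen, ← J.map_ideal_basicOpen]
  have hu : IsUnit ((X.presheaf.map (homOfLE (X.basicOpen_le s)).op).hom s) :=
    RingedSpace.isUnit_res_basicOpen _ s
  refine le_antisymm (Ideal.map_le_iff_le_comap.2 fun a ha => ?_) (Ideal.map_le_iff_le_comap.2 fun a ha => ?_)
  · rw [Ideal.mem_comap, ← Ideal.unit_mul_mem_iff_mem _ hu, ← map_mul]
    exact Ideal.mem_map_of_mem _ (hI a ha)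
  · rw [Ideal.mem_comap, ← Ideal.unit_mul_mem_iff_mem _ hu, ← map_mul]
    exact Ideal.mem_map_of_mem _ (hJ a ha)

/-- Stalkwise inclusions spread out. -/
lemma exists_mul_le [IsLocallyNoetherian X] {I J : X.IdealSheafData} (U : X.affineOpens) {x : X}
    (hx : x ∈ U.1) (h : IntMult.stalkIdeal I x ≤ IntMult.stalkIdeal J x) :
    ∃ s, s ∉ prm U hx ∧ ∀ a ∈ I.ideal U, s * a ∈ J.ideal U := by
  classical
  haveI : IsNoetherianRing Γ(X, U.1) := IsLocallyNoetherian.component_noetherian U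
  letI := X.presheaf.algebra_section_stalk (⟨x, hx⟩ : U.1)
  haveI : IsLocalization.AtPrime (X.presheaf.stalk x) (prm U hx) := U.2.isLocalization_stalk ⟨x, hx⟩
  obtain ⟨G, hG⟩ := IsNoetherian.noetherian (I.ideal U)
  have hk : ∀ c : G, ∃ t, t ∉ prm U hx ∧ t * c.1 ∈ J.ideal U := fun c => by
    have hc : algebraMap Γ(X, U.1) (X.presheaf.stalk x) c.1 ∈
        (J.ideal U).map (algebraMap Γ(X, U.1) (X.presheaf.stalk x)) := by
      have h1 := h ((stalkIdeal_eq I U hx).symm ▸ Ideal.mem_map_of_mem _ (hG.le (Submodule.subset_span c.2)) :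
        (X.presheaf.germ U.1 x hx).hom c.1 ∈ IntMult.stalkIdeal I x)
      rwa [stalkIdeal_eq J U hx] at h1
    obtain ⟨t, ht, htc⟩ := (IsLocalization.algebraMap_mem_map_algebraMap_iff (prm U hx).primeCompl _ _ _).1 hc
    exact ⟨t, ht, htc⟩
  choose t ht htm using hk
  refine ⟨∏ c, t c, fun h => ?_, fun a ha => ?_⟩
  · obtain ⟨c, -, hc⟩ := Ideal.IsPrime.prod_mem_iff.1 h
    exact ht c hc
  · rw [← hG] at ha
    refine Submodule.span_induction (fun y hy => ?_) (by simp) (fun u v _ _ hu hv => by rw [mul_add]; exact add_mem hu hv)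
      (fun r u _ hu => by rw [smul_eq_mul, mul_left_comm]; exact Ideal.mul_mem_left _ _ hu) ha
    obtain ⟨d, hd⟩ := Finset.dvd_prod_of_mem t (Finset.mem_univ (⟨y, hy⟩ : G))
    rw [hd, mul_comm _ d, mul_assoc]
    exact Ideal.mul_mem_left _ _ (htm ⟨y, hy⟩)

/-- Where two ideal sheaves have the same stalk they agree nearby. -/
lemma exists_affine_nhd_eq [IsLocallyNoetherian X] {I J : X.IdealSheafData} {x : X}
    (h : IntMult.stalkIdeal I x = IntMult.stalkIdeal J x) :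
    ∃ W : X.affineOpens, x ∈ W.1 ∧ I.ideal W = J.ideal W := by
  obtain ⟨U, hU, hxU, -⟩ := exists_isAffineOpen_mem_and_subset (x := x) (U := ⊤) trivial
  obtain ⟨s, hs, hsI⟩ := exists_mul_le ⟨U, hU⟩ hxU h.le
  obtain ⟨t, ht, htJ⟩ := exists_mul_le ⟨U, hU⟩ hxU h.ge
  refine ⟨X.affineBasicOpen (U := ⟨U, hU⟩) (s * t), ?_, ideal_map_basicOpen_eq ⟨U, hU⟩ _
    (fun a ha => ?_) fun a ha => ?_⟩
  · refine (X.mem_basicOpen (s * t) x hxU).2 ?_
    by_contra hn
    exact ((prm_isPrime (⟨U, hU⟩ : X.affineOpens) hxU).mem_or_mem ((mem_prm_iff ⟨U, hU⟩ hxU _).2 hn)).elim hs ht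
  · rw [mul_comm s, mul_assoc]; exact Ideal.mul_mem_left _ _ (hsI a ha)
  · rw [mul_assoc]; exact Ideal.mul_mem_left _ _ (htJ a ha)

end SDivLib

end
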